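import Mathlib
import Cfsg.Agent.H323.OI.Pieces
import Cfsg.Agent.Lib.Cores

/-!
# S3325, piece 14: the quotient by `O(G)` (helper569)
-/

set_option autoImplicit false

namespace Cfsg.Agent.H569.OI

open Cfsg Subgroup Matrix QuadraticMap
open scoped commutatorElement
open Cfsg.Agent.H183
open Cfsg.Agent.H323.OI

/-- an element commuting with the involution `t` modulo a normal subgroup of odd order -/
theorem exists_lift {G : Type*} [Group G] [Finite G] {t : G} (tt : t * t = 1) {N : Subgroup G} (hN : Odd (Nat.card N))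
    {g : G} (hg : g * t * g⁻¹ * t ∈ N) : ∃ y ∈ N, y⁻¹ * g * t = t * (y⁻¹ * g) := by
  set x := g * t * g⁻¹ * t with hx
  have hti : t⁻¹ = t := (eq_inv_of_mul_eq_one_left tt).symm
  have hxo : Odd (orderOf x) := by
    refine Odd.of_dvd_nat hN ?_
    rw [← Subgroup.orderOf_mk x hg]
    exact orderOf_dvd_natCard _
  obtain ⟨k, hk⟩ := hxo
  set y := x ^ (k + 1) with hy
  have hyy : y * y = x := by
    rw [hy, ← pow_add]
    have : k + 1 + (k + 1) = orderOf x + 1 := by omega
    rw [this, pow_succ, pow_orderOf_eq_one, one_mul]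
  have hinv : t * x * t⁻¹ = x⁻¹ := by
    rw [hx, hti, _root_.mul_inv_rev, _root_.mul_inv_rev, _root_.mul_inv_rev, inv_inv, hti]
    calc t * (g * t * g⁻¹ * t) * t = t * (g * t * g⁻¹) * (t * t) := by group
      _ = t * (g * (t * g⁻¹)) := by rw [tt]; group
  have hiny : t * y * t⁻¹ = y⁻¹ := by
    rw [hy, ← conj_pow, hinv, inv_pow]
  refine ⟨y, pow_mem hg _, ?_⟩
  -- `g t g⁻¹ = y t y⁻¹`
  have h1 : g * t * g⁻¹ = y * t * y⁻¹ := by
    have h2 : g * t * g⁻¹ = x * t := by
      rw [hx, mul_assoc (g * t * g⁻¹) t t, tt, mul_one]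
    have h3 : t * y⁻¹ = y * t := by
      have h4 : (t * y * t⁻¹)⁻¹ = y := by rw [hiny, inv_inv]
      calc t * y⁻¹ = (t * y * t⁻¹)⁻¹ * t := by group
        _ = y * t := by rw [h4]
    rw [h2, mul_assoc y t, h3, ← mul_assoc, hyy]
  calc y⁻¹ * g * t = y⁻¹ * (g * t * g⁻¹) * g := by group
    _ = t * (y⁻¹ * g) := by rw [h1]; group

/-- a normal subgroup covering `G / Z(G)` of a perfect group -/
theorem eq_top_of_sup {G : Type*} [Group G] (hp : Group.IsPerfect G) {N : Subgroup G} (hN : N.Normal)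
    (h : N ⊔ center G = ⊤) : N = ⊤ := by
  have h8 : ⁅(⊤ : Subgroup G), (⊤ : Subgroup G)⁆ = ⊤ := hp.commutator_eq_top
  rw [eq_top_iff, ← h8, commutator_le]
  intro a _ b _
  have ha : a ∈ N ⊔ center G := by rw [h]; trivial
  have hb : b ∈ N ⊔ center G := by rw [h]; trivial
  rw [← SetLike.mem_coe, Subgroup.normal_mul] at ha hb
  obtain ⟨a₁, ha₁, z₁, hz₁, rfl⟩ := ha
  obtain ⟨b₁, hb₁, z₂, hz₂, rfl⟩ := hb
  rw [SetLike.mem_coe] at ha₁ hb₁ hz₁ hz₂
  have e1 := mem_center_iff.1 hz₁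
  have e2 := mem_center_iff.1 hz₂
  have h9 : ⁅a₁ * z₁, b₁ * z₂⁆ = ⁅a₁, b₁⁆ := by
    rw [commutatorElement_def, commutatorElement_def]
    calc a₁ * z₁ * (b₁ * z₂) * (a₁ * z₁)⁻¹ * (b₁ * z₂)⁻¹
        = a₁ * (z₁ * (b₁ * z₂)) * (a₁ * z₁)⁻¹ * (b₁ * z₂)⁻¹ := by group
      _ = a₁ * (b₁ * z₂) * a₁⁻¹ * (b₁ * z₂)⁻¹ := by
          rw [← e1 (b₁ * z₂)]; group
      _ = a₁ * b₁ * (z₂ * a₁⁻¹) * z₂⁻¹ * b₁⁻¹ := by group
      _ = _ := by rw [← e2 a₁⁻¹]; group
  show ⁅a₁ * z₁, b₁ * z₂⁆ ∈ N
  rw [h9]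
  have h10 : ⁅a₁, b₁⁆ = a₁ * (b₁ * a₁⁻¹ * b₁⁻¹) := by rw [commutatorElement_def]; group
  rw [h10]
  exact mul_mem ha₁ (hN.conj_mem _ (inv_mem ha₁) _)

theorem pQuot : PQuot := by
  intro F _ n c hc G _ _ s
  set O := oddCore G with hO
  have hOn : O.Normal := Cfsg.Agent.Lib.Cores.pPrimeCore_normal 2
  have hodd : Odd (Nat.card O) :=
    Nat.coprime_two_right.mp (Cfsg.Agent.Lib.Cores.pPrimeCore_coprime (G := G) 2)
  -- an element of order two is not in `O`
  have hO2 : ∀ a ∈ O, a * a = 1 → a = 1 := by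
    intro a ha haa
    have h1 : orderOf a ∣ 2 := orderOf_dvd_of_pow_eq_one (by rw [pow_two]; exact haa)
    have h2 : Odd (orderOf a) := by
      refine Odd.of_dvd_nat hodd ?_
      rw [← Subgroup.orderOf_mk a ha]
      exact orderOf_dvd_natCard _
    rcases (Nat.dvd_prime Nat.prime_two).1 h1 with h3 | h3
    · exact orderOf_eq_one_iff.1 h3
    · rw [h3] at h2
      exact absurd h2 (by decide)
  -- `M ∩ O = 1`
  have hMO : s.M ⊓ O = ⊥ := by
    have h1 : (O.comap s.ψ).Normal := hOn.comap _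
    obtain ⟨hperf, hsim⟩ := hc.qs
    have h2 : O.comap s.ψ ≤ center (Om c) := by
      -- the image in the simple quotient
      have h3 : ((O.comap s.ψ).map (QuotientGroup.mk' (center (Om c)))).Normal :=
        h1.map _ (QuotientGroup.mk'_surjective _)
      rcases h3.eq_bot_or_eq_top with h4 | h4
      · rw [Subgroup.map_eq_bot_iff, QuotientGroup.ker_mk'] at h4
        exact h4
      · exfalso
        have h5 : O.comap s.ψ ⊔ center (Om c) = ⊤ := by
          have h6 := congrArg (Subgroup.comap (QuotientGroup.mk' (center (Om c)))) h4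
          rw [Subgroup.comap_map_eq, QuotientGroup.ker_mk', Subgroup.comap_top] at h6
          exact h6
        have h7 : O.comap s.ψ = ⊤ := eq_top_of_sup hperf h1 h5
        obtain ⟨A, hA, hA2⟩ := hc.e16
        obtain ⟨a, haA, ha1⟩ : ∃ a ∈ A, a ≠ 1 := by
          by_contra hcon
          push Not at hcon
          have : A = ⊥ := by
            rw [eq_bot_iff]
            exact fun x hx => mem_bot.2 (hcon x hx)
          rw [this, card_bot] at hA
          omega
        have h8 : s.ψ a ∈ O := by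
          have : a ∈ O.comap s.ψ := by rw [h7]; trivial
          exact this
        have h9 := hO2 _ h8 (by rw [← map_mul, hA2 a haA, map_one])
        exact ha1 (s.inj (by rw [h9, map_one]))
    rw [eq_bot_iff]
    rintro _ ⟨⟨m, rfl⟩, hm⟩
    have h3 : m ∈ center (Om c) := h2 hm
    have h4 := hc.cen m.1 (fun x hx => (congrArg Subtype.val (mem_center_iff.1 h3 ⟨x, hx⟩)).symm)
    have h5 : m.1 * m.1 = 1 := by
      rcases h4 with h4 | h4
      · rw [h4, mul_one]
      · rw [h4]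
        apply Subtype.ext
        show (-1 : Matrix.GeneralLinearGroup (Fin n) F) * -1 = 1
        rw [neg_mul_neg, one_mul]
    have h6 : m * m = 1 := Subtype.ext h5
    rw [mem_bot]
    exact hO2 _ hm (by rw [← map_mul, h6, map_one])
  refine ⟨hMO, ?_⟩
  have hmk : ∀ a b : G, (QuotientGroup.mk a : G ⧸ O) = QuotientGroup.mk b ↔ a * b⁻¹ ∈ O := by
    intro a b
    rw [eq_comm, QuotientGroup.eq, ← hOn.mem_comm_iff]
  have hti : s.t⁻¹ = s.t := (eq_inv_of_mul_eq_one_left s.tt).symm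
  -- lifting elements centralising `t`
  have hlift : ∀ g : G, (QuotientGroup.mk g : G ⧸ O) * QuotientGroup.mk s.t = QuotientGroup.mk s.t * QuotientGroup.mk g →
      ∃ g' : G, (QuotientGroup.mk g' : G ⧸ O) = QuotientGroup.mk g ∧ g' * s.t = s.t * g' := by
    intro g hg
    have h1 : g * s.t * g⁻¹ * s.t ∈ O := by
      have h2 : (QuotientGroup.mk (g * s.t) : G ⧸ O) = QuotientGroup.mk (s.t * g) := hg
      rw [hmk] at h2
      have h3 : g * s.t * (s.t * g)⁻¹ = g * s.t * g⁻¹ * s.t := by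
        rw [_root_.mul_inv_rev, hti]; group
      rwa [h3] at h2
    obtain ⟨y, hy, hyg⟩ := exists_lift s.tt hodd h1
    refine ⟨y⁻¹ * g, ?_, hyg⟩
    rw [hmk]
    have : y⁻¹ * g * g⁻¹ = y⁻¹ := by group
    rw [this]
    exact inv_mem hy
  -- elements of `C` centralising `M` modulo `O`
  have hcentM : ∀ g : G, g * s.t = s.t * g → (∀ m, g * s.ψ m * g⁻¹ * (s.ψ m)⁻¹ ∈ O) → ∀ m, g * s.ψ m = s.ψ m * g := by
    intro g hg hm m
    have h1 : g * s.ψ m * g⁻¹ * (s.ψ m)⁻¹ ∈ s.M ⊓ O := ⟨mul_mem (s.nrm g hg m) (s.M.inv_mem ⟨m, rfl⟩), hm m⟩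
    rw [hMO, mem_bot] at h1
    have h2 := mul_inv_eq_one.1 h1
    exact mul_inv_eq_iff_eq_mul.1 h2
  have hidx : Odd ((((QuotientGroup.mk' O).comp s.ψ).range ⊔ closure {(QuotientGroup.mk s.u : G ⧸ O),
      QuotientGroup.mk s.u'}).relIndex (centralizer {(QuotientGroup.mk s.t : G ⧸ O)})) := by
    have h1 : ((QuotientGroup.mk' O).comp s.ψ).range ⊔ closure {(QuotientGroup.mk s.u : G ⧸ O),
        QuotientGroup.mk s.u'} = (s.M ⊔ closure {s.u, s.u'}).map (QuotientGroup.mk' O) := by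
      rw [Subgroup.map_sup, MonoidHom.map_closure, Set.image_pair, MonoidHom.range_comp]
      rfl
    have h2 : centralizer {(QuotientGroup.mk s.t : G ⧸ O)} = (centralizer {s.t}).map (QuotientGroup.mk' O) := by
      ext x
      constructor
      · intro hx
        obtain ⟨g, rfl⟩ := QuotientGroup.mk_surjective x
        obtain ⟨g', h3, h4⟩ := hlift g (mem_centralizer_singleton_iff.1 hx)
        exact ⟨g', mem_centralizer_singleton_iff.2 h4, h3⟩
      · rintro ⟨g, hg, rfl⟩
        rw [mem_centralizer_singleton_iff]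
        have h3 := mem_centralizer_singleton_iff.1 hg
        exact congrArg (fun x : G => (QuotientGroup.mk x : G ⧸ O)) h3
    rw [h1, h2]
    refine Odd.of_dvd_nat s.idx ?_
    rw [← relIndex_comap]
    exact relIndex_dvd_of_le_left _ (le_comap_map _ _)
  have hCmap : centralizer {(QuotientGroup.mk s.t : G ⧸ O)} = (centralizer {s.t}).map (QuotientGroup.mk' O) := by
    ext x
    constructor
    · intro hx
      obtain ⟨g, rfl⟩ := QuotientGroup.mk_surjective x
      obtain ⟨g', h3, h4⟩ := hlift g (mem_centralizer_singleton_iff.1 hx)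
      exact ⟨g', mem_centralizer_singleton_iff.2 h4, h3⟩
    · rintro ⟨g, hg, rfl⟩
      rw [mem_centralizer_singleton_iff]
      have h3 := mem_centralizer_singleton_iff.1 hg
      exact congrArg (fun x : G => (QuotientGroup.mk x : G ⧸ O)) h3
  let s' : Cfg c (G ⧸ O) :=
    { t := QuotientGroup.mk s.t
      t1 := fun h => s.t1 (hO2 _ ((QuotientGroup.eq_one_iff _).1 h) s.tt)
      tt := by
        rw [← QuotientGroup.mk_mul, s.tt]
        rfl
      ψ := (QuotientGroup.mk' O).comp s.ψ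
      inj := by
        rw [injective_iff_map_eq_one]
        intro m hm
        have h1 : s.ψ m ∈ s.M ⊓ O := ⟨⟨m, rfl⟩, (QuotientGroup.eq_one_iff _).1 hm⟩
        rw [hMO, mem_bot] at h1
        exact s.inj (by rw [h1, map_one])
      fix := fun m => congrArg (fun x : G => (QuotientGroup.mk x : G ⧸ O)) (s.fix m)
      nrm := by
        intro g hg m
        obtain ⟨g, rfl⟩ := QuotientGroup.mk_surjective g
        obtain ⟨g', h3, h4⟩ := hlift g hg
        obtain ⟨m', hm'⟩ := s.nrm g' h4 m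
        refine ⟨m', ?_⟩
        rw [← h3]
        exact congrArg (fun x : G => (QuotientGroup.mk x : G ⧸ O)) hm'
      z := s.z
      z' := s.z'
      zz := s.zz
      zz' := s.zz'
      dz := s.dz
      dz' := s.dz'
      cos := s.cos
      u := QuotientGroup.mk s.u
      u' := QuotientGroup.mk s.u'
      ut := congrArg (fun x : G => (QuotientGroup.mk x : G ⧸ O)) s.ut
      ut' := congrArg (fun x : G => (QuotientGroup.mk x : G ⧸ O)) s.ut'
      uu := congrArg (fun x : G => (QuotientGroup.mk x : G ⧸ O)) s.uu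
      uu' := congrArg (fun x : G => (QuotientGroup.mk x : G ⧸ O)) s.uu'
      uψ := fun m => congrArg (fun x : G => (QuotientGroup.mk x : G ⧸ O)) (s.uψ m)
      uψ' := fun m => congrArg (fun x : G => (QuotientGroup.mk x : G ⧸ O)) (s.uψ' m)
      idx := hidx
      ev := by
        have h1 : Even (orderOf (QuotientGroup.mk s.c0 : G ⧸ O)) := by
          by_contra h2
          rw [Nat.not_even_iff_odd] at h2
          set k := orderOf (QuotientGroup.mk s.c0 : G ⧸ O) with hk
          have h3 : s.c0 ^ k ∈ O := by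
            rw [← QuotientGroup.eq_one_iff, QuotientGroup.mk_pow, hk, pow_orderOf_eq_one]
          have h4 : Odd (orderOf (s.c0 ^ k)) := by
            refine Odd.of_dvd_nat hodd ?_
            rw [← Subgroup.orderOf_mk _ h3]
            exact orderOf_dvd_natCard _
          have h5 : orderOf s.c0 ∣ k * orderOf (s.c0 ^ k) := by
            apply orderOf_dvd_of_pow_eq_one
            rw [pow_mul, pow_orderOf_eq_one]
          exact (Nat.not_even_iff_odd.2 (Odd.of_dvd_nat (h2.mul h4) h5)) s.even_c0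
        exact h1 }
  have hQ : s'.Q = s.Q.map (QuotientGroup.mk' O) := by
    ext x
    constructor
    · rintro ⟨hx, hx2⟩
      obtain ⟨g, rfl⟩ := QuotientGroup.mk_surjective x
      obtain ⟨g', h3, h4⟩ := hlift g (mem_centralizer_singleton_iff.1 hx)
      refine ⟨g', ⟨mem_centralizer_singleton_iff.2 h4, ?_⟩, h3⟩
      refine mem_centralizer_iff.2 ?_
      rintro _ ⟨m, rfl⟩
      refine (hcentM g' h4 ?_ m).symm
      intro m
      have h5 : (QuotientGroup.mk (s.ψ m) : G ⧸ O) * QuotientGroup.mk g = QuotientGroup.mk g * QuotientGroup.mk (s.ψ m) :=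
        mem_centralizer_iff.1 hx2 _ ⟨m, rfl⟩
      rw [← h3] at h5
      rw [← QuotientGroup.eq_one_iff]
      show (QuotientGroup.mk g' : G ⧸ O) * QuotientGroup.mk (s.ψ m) * (QuotientGroup.mk g')⁻¹ *
        (QuotientGroup.mk (s.ψ m))⁻¹ = 1
      rw [← h5]
      group
    · rintro ⟨g, ⟨hg, hg2⟩, rfl⟩
      refine ⟨?_, ?_⟩
      · show _ ∈ centralizer {(QuotientGroup.mk s.t : G ⧸ O)}
        rw [hCmap]
        exact ⟨g, hg, rfl⟩
      · refine mem_centralizer_iff.2 ?_
        rintro _ ⟨m, rfl⟩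
        exact congrArg (fun x : G => (QuotientGroup.mk x : G ⧸ O)) (mem_centralizer_iff.1 hg2 _ ⟨m, rfl⟩)
  refine ⟨s', rfl, rfl, rfl, rfl, rfl, rfl, hCmap, hQ, ?_⟩
  -- the order of `Q`
  have h1 : centralizer {s.t} ⊓ O = s.Q ⊓ O := by
    apply le_antisymm
    · rintro g ⟨hg, hgO⟩
      refine ⟨⟨hg, ?_⟩, hgO⟩
      refine mem_centralizer_iff.2 ?_
      rintro _ ⟨m, rfl⟩
      refine (hcentM g (mem_centralizer_singleton_iff.1 hg) ?_ m).symm
      intro m
      have h2 : g * s.ψ m * g⁻¹ * (s.ψ m)⁻¹ = g * (s.ψ m * g⁻¹ * (s.ψ m)⁻¹) := by group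
      rw [h2]
      exact mul_mem hgO (hOn.conj_mem _ (inv_mem hgO) _)
    · exact inf_le_inf_right _ inf_le_left
  rw [h1, hQ]
  have h2 := ((QuotientGroup.mk' O).subgroupMap s.Q).ker.card_mul_index
  rw [index_ker] at h2
  have h3 : ((QuotientGroup.mk' O).subgroupMap s.Q).range = ⊤ :=
    MonoidHom.range_eq_top.2 ((QuotientGroup.mk' O).subgroupMap_surjective s.Q)
  rw [h3, card_top] at h2
  have h4 : ((QuotientGroup.mk' O).subgroupMap s.Q).ker = O.subgroupOf s.Q := by
    ext x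
    rw [MonoidHom.mem_ker, mem_subgroupOf, ← QuotientGroup.eq_one_iff]
    constructor
    · intro h5
      exact congrArg Subtype.val h5
    · intro h5
      exact Subtype.ext h5
  rw [h4] at h2
  have h5 : Nat.card ↥(O.subgroupOf s.Q) = Nat.card ↥(s.Q ⊓ O) := by
    have h6 : (O.subgroupOf s.Q).map s.Q.subtype = s.Q ⊓ O := by
      rw [subgroupOf_map_subtype, inf_comm]
    rw [← h6]
    exact Nat.card_congr ((O.subgroupOf s.Q).equivMapOfInjective _ s.Q.subtype_injective).toEquiv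
  rw [h5] at h2
  rw [← h2, mul_comm]

end Cfsg.Agent.H569.OI
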